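import Mathlib
import Cfsg.Agent.Lib.XC.FR
import Cfsg.Agent.Lib.FPD.Main
import Cfsg.Agent.S4124
import Cfsg.Agent.S3017
import Cfsg.Agent.S0205

/-! XC/SOL: solvability of the normal closure. -/

set_option autoImplicit false
set_option linter.unusedSectionVars false
set_option linter.unusedVariables false

namespace CfsgLib.XC

open Subgroup Cfsg CfsgLib.PComp CfsgLib.Tech CfsgLib.Char
open scoped ComplexConjugate

variable {G : Type*} [Group G] [Finite G] {p : ℕ} [hp : Fact p.Prime] {H : Subgroup G} {M : Ideal AlgInt}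
  {χ : G → ℂ}

/-- `X = ⟨H^G⟩ = H R`, `R = O_{p'}(X)` (`sup_opOf_ncl`), `C_R(H) ≤ R ⊓ H = ⊥`; `R` is solvable by `FPD.box.solN` / `S4124.result`
(nilpotent fixed-point-free operator group; pass to `H / C_H(R)` or the image in `MulAut R` if faithfulness is needed);
`X / R` is an image of `H`. -/
theorem solv_of_tt (h : Hyp p H) (ht : TT H) : Group.IsSolvable ↥(normalClosure (H : Set G)) := by
  have hR : (opOf p (normalClosure (H : Set G))).Normal := opOf_normal _
  have hnil : Group.IsNilpotent H := h.pg.isNilpotent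
  have hsol : Group.IsSolvable (opOf p (normalClosure (H : Set G))) := by
    refine FPD.box.solN (MulAut.conjNormal (H := opOf p (normalClosure (H : Set G)))) hnil
      (KMS.fix_eq_bot_iff.2 fun r hr => ?_)
    have hc : ∀ a ∈ H, a * (r : G) * a⁻¹ = r := fun a ha => by
      have := congrArg Subtype.val (hr a ha)
      rwa [MulAut.conjNormal_apply] at this
    have hN : (r : G) ∈ normalizer (H : Set G) := by
      refine centralizer_le_normalizer _ (mem_centralizer_iff.2 fun a ha => ?_)
      calc a * (r : G) = a * r * a⁻¹ * a := by group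
        _ = r * a := by rw [hc a ha]
    have hH : (r : G) ∈ H := ht ⟨opOf_le _ r.2, hN⟩
    obtain ⟨k, hk⟩ := h.pElt hH
    have h1 : orderOf (r : G) ∣ Nat.card (opOf p (normalClosure (H : Set G))) := by
      rw [Subgroup.orderOf_coe]; exact orderOf_dvd_natCard r
    have h2 : (orderOf (r : G)).Coprime (p ^ k) :=
      Nat.Coprime.pow_right k (Nat.Coprime.coprime_dvd_left h1 (coprime_card_opOf _))
    rw [hk, Nat.coprime_self] at h2
    exact Subtype.ext (orderOf_eq_one_iff.1 (hk.trans h2))
  rw [← sup_opOf_ncl h ht]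
  exact Core.isSolvable_sup_of_normal _ _

omit hp in
/-- `p = 2`: `N(H) ⊔ O(G) = ⊤` (`S3017.result`), so `H ⊔ O(G)` is normal; `O(G)` is solvable (`S0205.result`, odd order) -/
theorem solv_two (h : Hyp 2 H) : ∃ N : Subgroup G, N.Normal ∧ Group.IsSolvable ↥N ∧ H ≤ N := by
  have : Fact (Nat.Prime 2) := ⟨Nat.prime_two⟩
  have hnil : Group.IsNilpotent H := h.pg.isNilpotent
  have htop := Cfsg.Agent.S3017.result H h.pg h.ab h.cl
  have hsol : Group.IsSolvable (oddCore G) :=
    Cfsg.Agent.S0205.result (Nat.coprime_two_right.1 PLocal.PSolv.coprime_card_pPrimeCore)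
  refine ⟨H ⊔ oddCore G, ?_, Core.isSolvable_sup_of_normal _ _, le_sup_left⟩
  rw [← normalizer_eq_top_iff, eq_top_iff, ← htop]
  refine sup_le ?_ (le_sup_right.trans le_normalizer)
  rw [le_normalizer_iff]
  intro g hg x hx
  have hx' : x ∈ ((H ⊔ oddCore G : Subgroup G) : Set G) := hx
  rw [mul_normal] at hx'
  obtain ⟨a, ha, b, hb, rfl⟩ := hx'
  have e : g * (a * b) * g⁻¹ = (g * a * g⁻¹) * (g * b * g⁻¹) := by group
  show g * (a * b) * g⁻¹ ∈ _
  rw [e]
  exact mul_mem (mem_sup_left ((mem_normalizer_iff.1 hg a).1 ha))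
    (mem_sup_right ((pPrimeCore_normal 2 G).conj_mem b hb g))

end CfsgLib.XC
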